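import Mathlib
import Cfsg.Agent.Lib.Helper94.Refl
import Cfsg.Agent.Lib.Helper55.QSim.R35Defs

/-!
# Project QSim (S5981), sub-packages [R35W3], [R35W5]: Witt bases in dimensions 3 and 5
-/

set_option autoImplicit false
set_option linter.unusedSectionVars false
open scoped MatrixGroups Matrix

namespace Cfsg.Agent.Lib.Helper55.QSim

universe u

open Cfsg Cfsg.Geo Cfsg.Agent.Lib.Helper94 Polynomial

section general

variable {ι : Type} [Fintype ι] [DecidableEq ι] {F : Type u} [Field F] {Q : (ι → F) → F}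

theorem two_ne_zero_of_odd [Fintype F] (hodd : Fintype.card F % 2 = 1) : (2 : F) ≠ 0 := by
  intro h
  have h2 : ringChar F = 2 := by
    have hd : ringChar F ∣ 2 := ringChar.dvd (by exact_mod_cast h)
    rcases (Nat.dvd_prime Nat.prime_two).1 hd with h1 | h1
    · exact absurd h1 CharP.ringChar_ne_one
    · exact h1
  have := FiniteField.even_card_of_char_two h2
  omega

/-- From three pairwise orthogonal non-singular vectors: a hyperbolic pair `e, f` and a non-singular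
`w` orthogonal to both, all three in the span of the given vectors. -/
theorem triple [Fintype F] (hQ : IsNondegenerateQuadraticForm Q) (hodd : Fintype.card F % 2 = 1)
    (u₀ u₁ u₂ : ι → F) (h0 : Q u₀ ≠ 0) (h1 : Q u₁ ≠ 0) (h2' : Q u₂ ≠ 0)
    (h01 : pol Q u₀ u₁ = 0) (h02 : pol Q u₀ u₂ = 0) (h12 : pol Q u₁ u₂ = 0) :
    ∃ e f w : ι → F, Q e = 0 ∧ Q f = 0 ∧ pol Q e f = 1 ∧ pol Q e w = 0 ∧ pol Q f w = 0 ∧ Q w ≠ 0 ∧
      ∀ z, pol Q u₀ z = 0 → pol Q u₁ z = 0 → pol Q u₂ z = 0 →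
        pol Q e z = 0 ∧ pol Q f z = 0 ∧ pol Q w z = 0 := by
  have h2 : (2 : F) ≠ 0 := two_ne_zero_of_odd hodd
  have h10 : pol Q u₁ u₀ = 0 := by rw [pol_comm]; exact h01
  have h20 : pol Q u₂ u₀ = 0 := by rw [pol_comm]; exact h02
  have h21 : pol Q u₂ u₁ = 0 := by rw [pol_comm]; exact h12
  -- the singular vector
  obtain ⟨c₀, c₁, hc⟩ : ∃ c₀ c₁ : F, Q u₀ * c₀ ^ 2 + (Q u₁ * c₁ ^ 2 + Q u₂) = 0 := by
    have hf2 : degree (C (Q u₀) * X ^ 2 : F[X]) = 2 := by
      rw [degree_C_mul_X_pow 2 h0]; rfl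
    have hg2 : degree (C (Q u₁) * X ^ 2 + C (Q u₂) : F[X]) = 2 := by
      rw [degree_add_C]
      · rw [degree_C_mul_X_pow 2 h1]; rfl
      · rw [degree_C_mul_X_pow 2 h1]; norm_num
    obtain ⟨a, b, hab⟩ := FiniteField.exists_root_sum_quadratic hf2 hg2 hodd
    refine ⟨a, b, ?_⟩
    simpa using hab
  set e : ι → F := c₀ • u₀ + c₁ • u₁ + u₂ with he
  have hQe : Q e = 0 := by
    rw [he]
    simp only [Q_add (Q := Q), Q_smul hQ, pol_add_left hQ, pol_smul_left hQ, pol_smul_right hQ,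
      h01, h02, h12]
    linear_combination hc
  have hpol_e : ∀ z, pol Q e z = c₀ * pol Q u₀ z + c₁ * pol Q u₁ z + pol Q u₂ z := by
    intro z
    rw [he, pol_add_left hQ, pol_add_left hQ, pol_smul_left hQ, pol_smul_left hQ]
  have hpol_e' : ∀ z, pol Q z e = c₀ * pol Q u₀ z + c₁ * pol Q u₁ z + pol Q u₂ z := by
    intro z
    rw [pol_comm, hpol_e]
  have he2 : pol Q e u₂ = 2 * Q u₂ := by
    rw [hpol_e, h02, h12, pol_self hQ]
    ring
  have he2ne : pol Q e u₂ ≠ 0 := by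
    rw [he2]
    exact mul_ne_zero h2 h2'
  -- the partner
  set f : ι → F := (pol Q e u₂)⁻¹ • (u₂ - (Q u₂ / pol Q u₂ e) • e) with hf
  have hu2e : pol Q u₂ e = pol Q e u₂ := pol_comm _ _
  have hQf : Q f = 0 := by
    rw [hf, Q_smul hQ, Q_sub hQ, Q_smul hQ, pol_smul_right hQ, hQe, hu2e]
    field_simp
    ring
  have hef : pol Q e f = 1 := by
    rw [hf, pol_smul_right hQ, pol_sub_right hQ, pol_smul_right hQ, pol_self hQ, hQe, hu2e]
    field_simp
    ring
  have hpol_f : ∀ z, pol Q u₂ z = 0 → pol Q e z = 0 → pol Q f z = 0 := by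
    intro z hz1 hz2
    rw [hf, pol_smul_left hQ, pol_sub_left hQ, pol_smul_left hQ, hz1, hz2]
    ring
  -- the third vector
  set w : ι → F := (Q u₁ * c₁) • u₀ - (Q u₀ * c₀) • u₁ with hw
  have hpol_w : ∀ z, pol Q w z = Q u₁ * c₁ * pol Q u₀ z - Q u₀ * c₀ * pol Q u₁ z := by
    intro z
    rw [hw, pol_sub_left hQ, pol_smul_left hQ, pol_smul_left hQ]
  have hew : pol Q e w = 0 := by
    rw [pol_comm, hpol_w, pol_comm u₀ e, pol_comm u₁ e, hpol_e, hpol_e, h10, h20, h01, h21,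
      pol_self hQ, pol_self hQ]
    ring
  have hu2w : pol Q u₂ w = 0 := by
    rw [pol_comm, hpol_w, h02, h12]
    ring
  have hfw : pol Q f w = 0 := hpol_f w hu2w hew
  have hQw : Q w ≠ 0 := by
    have hval : Q w = -(Q u₀ * Q u₁ * Q u₂) := by
      rw [hw, Q_sub hQ, Q_smul hQ, Q_smul hQ, pol_smul_left hQ, pol_smul_right hQ, h01]
      linear_combination (Q u₀ * Q u₁) * hc
    rw [hval]
    exact neg_ne_zero.2 (mul_ne_zero (mul_ne_zero h0 h1) h2')
  refine ⟨e, f, w, hQe, hQf, hef, hew, hfw, hQw, ?_⟩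
  intro z hz0 hz1 hz2
  have h1e : pol Q e z = 0 := by
    rw [hpol_e, hz0, hz1, hz2]
    ring
  refine ⟨h1e, hpol_f z hz2 h1e, ?_⟩
  rw [hpol_w, hz0, hz1]
  ring

end general

section fin

variable {n : ℕ} {F : Type u} [Field F] {Q : (Fin n → F) → F}

/-- An orthogonal family of `n` non-singular vectors. -/
theorem exists_orth_family (hQ : IsNondegenerateQuadraticForm Q) (h2 : (2 : F) ≠ 0) :
    ∃ b : Fin n → (Fin n → F), (∀ i, Q (b i) ≠ 0) ∧ (∀ i j, i ≠ j → pol Q (b i) (b j) = 0) := by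
  classical
  let B : LinearMap.BilinForm F (Fin n → F) :=
    LinearMap.mk₂ F (fun x y => pol Q x y) (pol_add_left hQ) (pol_smul_left hQ)
      (fun z x y => pol_add_right hQ x y z) (fun c z x => pol_smul_right hQ c x z)
  have hB : ∀ x y, B x y = pol Q x y := fun x y => rfl
  have : Invertible (2 : F) := invertibleOfNonzero h2
  have hsymm' : LinearMap.BilinForm.IsSymm B := ⟨fun x y => by rw [hB, hB, pol_comm]⟩
  have hsymm : LinearMap.IsSymm B := LinearMap.BilinForm.isSymm_iff.1 hsymm'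
  obtain ⟨v, hv⟩ := LinearMap.BilinForm.exists_orthogonal_basis hsymm
  have hn : Module.finrank F (Fin n → F) = n := Module.finrank_fin_fun F
  have hortho : ∀ i j, i ≠ j → pol Q (v i) (v j) = 0 := by
    intro i j hij
    have := LinearMap.isOrthoᵢ_def.1 hv i j hij
    rwa [hB] at this
  refine ⟨fun i => v (Fin.cast hn.symm i), ?_, ?_⟩
  · intro i hi
    have hw0 : v (Fin.cast hn.symm i) ≠ 0 := v.ne_zero _
    have hzero : B (v (Fin.cast hn.symm i)) = 0 := by
      apply v.ext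
      intro j
      rw [hB, LinearMap.zero_apply]
      by_cases hj : Fin.cast hn.symm i = j
      · rw [← hj, pol_self hQ, hi, mul_zero]
      · exact hortho _ _ hj
    obtain ⟨-, ⟨x, hx⟩⟩ := hQ.nondegenerate _ hw0
    apply hx
    have : B (v (Fin.cast hn.symm i)) x = 0 := by rw [hzero, LinearMap.zero_apply]
    rwa [hB] at this
  · intro i j hij
    apply hortho
    intro h
    exact hij (Fin.cast_injective _ h)

/-- A matrix transporting `Q` to a form with trivial radical is invertible. -/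
theorem isUnit_of_form (g : Matrix (Fin n) (Fin n) F) (Q₀ : (Fin n → F) → F)
    (hg : ∀ v, Q (g *ᵥ v) = Q₀ v)
    (hrad : ∀ v, (∀ u, Q₀ (v + u) = Q₀ u) → v = 0) : IsUnit g := by
  rw [← Matrix.mulVec_injective_iff_isUnit]
  have hinj : Function.Injective (Matrix.mulVecLin g) := by
    rw [injective_iff_map_eq_zero]
    intro v hv
    apply hrad
    intro u
    rw [← hg, ← hg, Matrix.mulVec_add]
    have hv' : g *ᵥ v = 0 := hv
    rw [hv', zero_add]
  exact hinj

end fin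

theorem pkgR35W3 : PkgR35W3.{u} := by
  intro F _ _ Q hodd hQ
  have hodd' : Fintype.card F % 2 = 1 := Nat.odd_iff.1 hodd
  have h2 : (2 : F) ≠ 0 := two_ne_zero_of_odd hodd'
  obtain ⟨b, hb, hbo⟩ := exists_orth_family hQ h2
  obtain ⟨e, f, w, hQe, hQf, hef, hew, hfw, hQw, -⟩ :=
    triple hQ hodd' (b 0) (b 1) (b 2) (hb 0) (hb 1) (hb 2) (hbo 0 1 (by decide))
      (hbo 0 2 (by decide)) (hbo 1 2 (by decide))
  set g : Matrix (Fin 3) (Fin 3) F := Matrix.of (fun i j => (![e, f, w] j) i) with hgdef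
  have hmul : ∀ v : Fin 3 → F, g *ᵥ v = v 0 • e + v 1 • f + v 2 • w := by
    intro v
    funext i
    simp [hgdef, Matrix.mulVec, dotProduct, Fin.sum_univ_three]
    ring
  have hform : ∀ v : Fin 3 → F, Q (g *ᵥ v) = v 0 * v 1 + Q w * v 2 ^ 2 := by
    intro v
    rw [hmul]
    simp only [Q_add (Q := Q), Q_smul hQ, pol_add_left hQ, pol_smul_left hQ, pol_smul_right hQ,
      hQe, hQf, hef, hew, hfw]
    ring
  have hU : IsUnit g := by
    apply isUnit_of_form (Q := Q) g (fun v => v 0 * v 1 + Q w * v 2 ^ 2) hform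
    intro v hv
    have e0 := hv 0
    have e1 := hv (Pi.single 0 1)
    have e2 := hv (Pi.single 1 1)
    simp at e0 e1 e2
    have hv1 : v 1 = 0 := by linear_combination e1 - e0
    have hv0 : v 0 = 0 := by linear_combination e2 - e0
    have hv2 : v 2 = 0 := by
      rw [hv0, zero_mul, zero_add] at e0
      rcases mul_eq_zero.1 e0 with h | h
      · exact absurd h hQw
      · exact pow_eq_zero_iff (two_ne_zero) |>.1 h
    funext i
    fin_cases i
    · exact hv0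
    · exact hv1
    · exact hv2
  refine ⟨hU.unit, Q w, ?_⟩
  intro v
  rw [IsUnit.unit_spec, hform]

end Cfsg.Agent.Lib.Helper55.QSim

namespace Cfsg.Agent.Lib.Helper55.QSim

universe u

open Cfsg Cfsg.Geo Cfsg.Agent.Lib.Helper94 Polynomial

theorem pkgR35W5 : PkgR35W5.{u} := by
  intro F _ _ Q hodd hQ
  have hodd' : Fintype.card F % 2 = 1 := Nat.odd_iff.1 hodd
  have h2 : (2 : F) ≠ 0 := two_ne_zero_of_odd hodd'
  obtain ⟨b, hb, hbo⟩ := exists_orth_family hQ h2
  obtain ⟨e₁, f₁, w₁, hQe₁, hQf₁, hef₁, hew₁, hfw₁, hQw₁, hz₁⟩ :=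
    triple hQ hodd' (b 0) (b 1) (b 2) (hb 0) (hb 1) (hb 2) (hbo 0 1 (by decide))
      (hbo 0 2 (by decide)) (hbo 1 2 (by decide))
  -- `b 3`, `b 4` are orthogonal to `e₁, f₁, w₁`
  obtain ⟨h3e, h3f, h3w⟩ := hz₁ (b 3) (hbo 0 3 (by decide)) (hbo 1 3 (by decide))
    (hbo 2 3 (by decide))
  obtain ⟨h4e, h4f, h4w⟩ := hz₁ (b 4) (hbo 0 4 (by decide)) (hbo 1 4 (by decide))
    (hbo 2 4 (by decide))
  have h3w' : pol Q (b 3) w₁ = 0 := by rw [pol_comm]; exact h3w
  have h4w' : pol Q (b 4) w₁ = 0 := by rw [pol_comm]; exact h4w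
  obtain ⟨e₂, f₂, w, hQe₂, hQf₂, hef₂, hew₂, hfw₂, hQw, hz₂⟩ :=
    triple hQ hodd' (b 3) (b 4) w₁ (hb 3) (hb 4) hQw₁ (hbo 3 4 (by decide)) h3w' h4w'
  -- `e₁`, `f₁` are orthogonal to `e₂, f₂, w`
  have hw₁e : pol Q w₁ e₁ = 0 := by rw [pol_comm]; exact hew₁
  have hw₁f : pol Q w₁ f₁ = 0 := by rw [pol_comm]; exact hfw₁
  have h3e' : pol Q (b 3) e₁ = 0 := by rw [pol_comm]; exact h3e
  have h4e' : pol Q (b 4) e₁ = 0 := by rw [pol_comm]; exact h4e
  have h3f' : pol Q (b 3) f₁ = 0 := by rw [pol_comm]; exact h3f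
  have h4f' : pol Q (b 4) f₁ = 0 := by rw [pol_comm]; exact h4f
  obtain ⟨k1, k2, k3⟩ := hz₂ e₁ h3e' h4e' hw₁e
  obtain ⟨l1, l2, l3⟩ := hz₂ f₁ h3f' h4f' hw₁f
  have a1 : pol Q e₁ e₂ = 0 := by rw [pol_comm]; exact k1
  have a2 : pol Q e₁ f₂ = 0 := by rw [pol_comm]; exact k2
  have a3 : pol Q e₁ w = 0 := by rw [pol_comm]; exact k3
  have a4 : pol Q f₁ e₂ = 0 := by rw [pol_comm]; exact l1
  have a5 : pol Q f₁ f₂ = 0 := by rw [pol_comm]; exact l2
  have a6 : pol Q f₁ w = 0 := by rw [pol_comm]; exact l3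
  set g : Matrix (Fin 5) (Fin 5) F := Matrix.of (fun i j => (![e₁, f₁, e₂, f₂, w] j) i) with hgdef
  have hmul : ∀ v : Fin 5 → F,
      g *ᵥ v = v 0 • e₁ + v 1 • f₁ + v 2 • e₂ + v 3 • f₂ + v 4 • w := by
    intro v
    funext i
    simp [hgdef, Matrix.mulVec, dotProduct, Fin.sum_univ_five]
    ring
  have hform : ∀ v : Fin 5 → F, Q (g *ᵥ v) = v 0 * v 1 + v 2 * v 3 + Q w * v 4 ^ 2 := by
    intro v
    rw [hmul]
    simp only [Q_add (Q := Q), Q_smul hQ, pol_add_left hQ, pol_smul_left hQ, pol_smul_right hQ,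
      hQe₁, hQf₁, hef₁, hQe₂, hQf₂, hef₂, hew₂, hfw₂, a1, a2, a3, a4, a5, a6]
    ring
  have hU : IsUnit g := by
    apply isUnit_of_form (Q := Q) g (fun v => v 0 * v 1 + v 2 * v 3 + Q w * v 4 ^ 2) hform
    intro v hv
    have e0 := hv 0
    have e1 := hv (Pi.single 0 1)
    have e2 := hv (Pi.single 1 1)
    have e3 := hv (Pi.single 2 1)
    have e4 := hv (Pi.single 3 1)
    simp at e0 e1 e2 e3 e4
    have hv1 : v 1 = 0 := by linear_combination e1 - e0
    have hv0 : v 0 = 0 := by linear_combination e2 - e0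
    have hv3 : v 3 = 0 := by linear_combination e3 - e0
    have hv2 : v 2 = 0 := by linear_combination e4 - e0
    have hv4 : v 4 = 0 := by
      rw [hv0, hv2, zero_mul, zero_mul, zero_add, zero_add] at e0
      rcases mul_eq_zero.1 e0 with h | h
      · exact absurd h hQw
      · exact pow_eq_zero_iff (two_ne_zero) |>.1 h
    funext i
    fin_cases i
    · exact hv0
    · exact hv1
    · exact hv2
    · exact hv3
    · exact hv4
  refine ⟨hU.unit, Q w, ?_⟩
  intro v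
  rw [IsUnit.unit_spec, hform]

end Cfsg.Agent.Lib.Helper55.QSim
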