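import Mathlib
import Cfsg.Agent.Lib.Helper55.QSim.R35Asm
import Cfsg.Agent.Lib.Helper55.QSim.R35W
import Cfsg.Agent.Lib.Helper87.QSim.R35Z
import Cfsg.Agent.Lib.Helper87.QSim.R35D
import Cfsg.Agent.Lib.Helper11.QSim.R35C

/-!
# Project QSim (S5981), package [R35]: the final theorem
-/

set_option autoImplicit false

namespace Cfsg.Agent.Lib.Helper55.QSim

universe u

/-- [R35] `n = r ∈ {3, 5}`, `(q - 1)_r = r`: every element of order `r` of `PSL_r(q)` is conjugate
into the similarity group of a non-degenerate quadratic form. -/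
theorem pkgR35 : Cfsg.Agent.Lib.Helper58.QSim.PkgR35.{u} :=
  pkgR35_of Cfsg.Agent.Lib.Helper87.QSim.pkgR35Z Cfsg.Agent.Lib.Helper87.QSim.pkgR35D
    Cfsg.Agent.Lib.Helper11.QSim.pkgR35C pkgR35W3 pkgR35W5

end Cfsg.Agent.Lib.Helper55.QSim
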